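import Cfsg.Agent.Spor.HNm.Main
import Cfsg.Agent.Spor.HNa.Main
import Cfsg.Agent.Spor.HNb.Main

set_option autoImplicit false
set_option maxRecDepth 100000

namespace Cfsg.Agent.Spor.HNm

theorem XL {G : Type} [Group G] {f : ℕ → G} (h : Pres 2 0 HNm.RL f) :
    ∀ l ∈ [[0, 0, 0, 0], [0, 0, 2, 2, 2, 0, 0, 3, 3, 3]], ev (atm 2 f) l = 1 := by
  have e0 : atm 2 f 0 = f 0 := rfl
  have e1 : atm 2 f 1 = (f 0)⁻¹ := rfl
  have e2 : atm 2 f 2 = f 1 := rfl
  have e3 : atm 2 f 3 = (f 1)⁻¹ := rfl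
  have h1 := h.rel [0, 0, 2, 0, 0, 3] (by decide)
  have h2 := h.rel [1, 2, 2, 0, 2, 2, 2, 1, 2, 2, 0, 2, 2, 2, 1, 2, 2, 0, 2, 2, 2] (by decide)
  simp only [List.forall_mem_cons, ev_cons, ev_nil, e0, e1, e2, e3, List.not_mem_nil, false_imp_iff,
    implies_true, and_true] at h1 h2 ⊢
  generalize f 0 = x at *
  generalize f 1 = y at *
  have k1 : SemiconjBy y (x * x) (x * x)⁻¹ := by
    rw [SemiconjBy, eq_inv_mul_iff_mul_eq, ← mul_inv_eq_one, ← h1]
    simp only [mul_assoc, mul_one]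
  have k2 : SemiconjBy y (x * x)⁻¹ (x * x) := by simpa only [inv_inv] using k1.inv_right
  have c1 : SemiconjBy x (x * x)⁻¹ (x * x)⁻¹ := ((Commute.refl x).mul_right (Commute.refl x)).inv_right
  have c2 : SemiconjBy x⁻¹ (x * x)⁻¹ (x * x)⁻¹ := Commute.inv_left c1
  have k4 := k1.mul_left (k2.mul_left k1)
  have k5 := c2.mul_left (k1.mul_left (k2.mul_left (c1.mul_left k4)))
  have k6 := k5.inv_right
  rw [inv_inv] at k6
  have k7 := k5.mul_left (k6.mul_left k5)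
  simp only [mul_assoc, mul_one] at k7 h2
  rw [h2, SemiconjBy, one_mul, mul_one, eq_inv_iff_mul_eq_one] at k7
  refine ⟨by simpa only [mul_assoc, mul_one] using k7, ?_⟩
  rw [SemiconjBy, eq_inv_mul_iff_mul_eq, ← mul_inv_eq_one] at k4
  simpa only [mul_assoc, mul_one, mul_inv_rev] using k4

theorem bound : Bound 2 0 HNm.RL 1512000 :=
  Bound.extra (XL := [[0, 0, 0, 0], [0, 0, 2, 2, 2, 0, 0, 3, 3, 3]]) (M := 6300 * 240)
    (HNa.cert.bound' HNb.cert.bound_nil (H := [([], 0, true), ([], 1, true), ([], 2, true), ([], 3, true), ([], 4, true), ([], 5, true), ([], 6, true), ([], 7, true)]) (H' := [([], 0, true), ([0], 0, true), ([1], 3, true), ([0], 5, true), ([], 1, true), ([0], 7, true), ([], 6, true)]) (by decide +kernel) (by decide +kernel))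
    fun _ _ _ h => XL h

end Cfsg.Agent.Spor.HNm
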