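import Cfsg.Agent.Spor.PC0

set_option autoImplicit false
set_option maxRecDepth 100000000
set_option Elab.async false
noncomputable section

namespace Cfsg.Agent.Spor.HNm

def A_cm : Nat := nat_lit 0x1fc000000007f000000001fc000000007f000000001fc000000007f
def A_rm : Nat := nat_lit 0x3ffffffffff
def A_em : Nat := nat_lit 0x7f01fc07f01fc07f01fc07f01fc07f01fc07f01fc07f01fc07f01fc07f01fc07f
def A_qm : Nat := nat_lit 0x1f007c01f007c01f007c01f007c01f007c01f007c01f007c01f007c01f007c01f
def A_one : Nat := nat_lit 0x20000000000010000000000008000000000004000000000002000000000001
def A : PA := ⟨nat_lit 5, nat_lit 7, nat_lit 6, nat_lit 6, nat_lit 42, nat_lit 103, nat_lit 9, A_cm, A_rm, A_em, A_qm, A_one⟩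

def gx : Nat := nat_lit 0x10003060818002002020400100000c003000c08002041000010104000c180

def gy : Nat := nat_lit 0x60810408000830408004060008106040030604183000810006080800008083

def TT : List Nat := [gx, (nat_lit 0x4002040c1000800083060018000080020008200081018000041810008100), gy, (nat_lit 0x60c1840800203040c004040008404040020404182000c180060c200000c203)]

def T2 : List Nat := [(nat_lit 0x210002020010102000010204100000c1810008200020008402040010404181), (nat_lit 0x210002020010102000010204100000c1810008200020008402040010404181), (nat_lit 0x604080061018300041030004202080c1800210204060008008080030004084), (nat_lit 0x80c20206042040210183020020302000010810001060000406100030400103), (nat_lit 0x80c0810800204060400402001800210001000c101060008008080030004084), (nat_lit 0x80c0810800204060400402001800210001000c101060008008080030004084), (nat_lit 0x80c1840600204040c00306002030408003081008206041840610183040c103), (nat_lit 0x6041030600183080800306042020604183021018306101800808103000c084), (nat_lit 0x8040030800184080000408101800008104000c080080020108100040610104), (nat_lit 0x8040030800184080000408101800008104000c080080020108100040610104), (nat_lit 0x210183041018402081830204203000010402040000200082060c0040810082), (nat_lit 0x40800006042030000102080c08204080810810203080020408040010604101)]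

def T3 : List Nat := [(nat_lit 0x60c08302002030804001080000302000040800001040420004101820010102), (nat_lit 0x40408002001820004001080000202080040200081041020006081020010083), (nat_lit 0x100820404100020418206102010404103061018204101840200102040c001), (nat_lit 0x200104041000104081020604204020c183041020104041810004182060c180), (nat_lit 0x404101060c1820608203080808308000840804004001008204041000204182), (nat_lit 0x41020006081020010083020c08204102010204102000420304101800810102)]

def T5 : List Nat := [(nat_lit 0x20000000100010000100000008000000000004000000000002000000000001), (nat_lit 0x20000000040010000180000008000000000004000000000002000000000001), (nat_lit 0x20000202000010200001000008000080000004080000000002000000000001), (nat_lit 0x200003020000108000010000080000c0000004200000000002000000000001), (nat_lit 0x20020102080010610081000008002040000004181000000002000000000001), (nat_lit 0x200084020c0010404201000008008100000004104000000002000000000001)]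

def T7 : List Nat := [(nat_lit 0x8040000610184000010304101840408102040c0820210001000c1010600200), (nat_lit 0x81030604080080818300101810000100060c000020410108101810608104)]

end Cfsg.Agent.Spor.HNm
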