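import Cfsg.Agent.Spor.HNm.D0

set_option autoImplicit false
set_option maxRecDepth 100000000
set_option Elab.async false

namespace Cfsg.Agent.Spor.HNm

theorem sq : PA.sq A = true := by decide +kernel

theorem TTok : PA.gensOk A TT 2 = true := by decide +kernel

theorem r1 : PA.isW A TT [2, 2, 2, 2, 2, 2] A.one = true := by decide +kernel

theorem r2 : PA.isW A TT [0, 0, 2, 0, 0, 3] A.one = true := by decide +kernel

theorem r3 : PA.isW A TT [1, 3, 0, 2, 1, 3, 0, 2, 1, 3, 0, 2] A.one = true := by decide +kernel

theorem r4 : PA.isW A TT [1, 2, 2, 0, 2, 2, 2, 1, 2, 2, 0, 2, 2, 2, 1, 2, 2, 0, 2, 2, 2] A.one = true := by decide +kernel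

theorem r5 : PA.isW A TT [0, 2, 0, 2, 0, 2, 0, 2, 0, 2, 0, 2, 0, 2, 0, 2] A.one = true := by decide +kernel

theorem r6 : PA.isW A TT [0, 2, 0, 2, 2, 2, 0, 2, 0, 2, 2, 2, 0, 2, 0, 2, 2, 2, 0, 2, 0, 2, 2, 2] A.one = true := by decide +kernel

theorem w7 : PA.isW A TT [3, 0, 3, 0, 3, 0, 2, 0, 2, 0, 2, 2, 2, 0, 2, 0, 2, 2, 0, 2, 0, 2, 0, 2] (nat_lit 0x80c0810800204060400402001800210001000c101060008008080030004084) = true := by decide +kernel

theorem w9 : PA.isW A TT [3, 1, 3, 3, 0, 3, 3, 0, 3, 3, 0, 3, 0, 3] (nat_lit 0x210183041018402081830204203000010402040000200082060c0040810082) = true := by decide +kernel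

theorem w11 : PA.isW A TT [0, 3, 3, 0, 2, 0, 2, 2, 0, 3, 3, 0, 2, 2, 0, 3, 0, 2, 2, 0, 3] (nat_lit 0x80c1840600204040c00306002030408003081008206041840610183040c103) = true := by decide +kernel

theorem pr13 : Nat.beq (PA.prod A [(nat_lit 0x80c1840600204040c00306002030408003081008206041840610183040c103), (nat_lit 0x80c1840600204040c00306002030408003081008206041840610183040c103)] A.one) (nat_lit 0x210002020010102000010204100000c1810008200020008402040010404181) = true := by decide +kernel

theorem iv15 : band (PA.can A (nat_lit 0x6041030600183080800306042020604183021018306101800808103000c084)) (Nat.beq (PA.mul A (nat_lit 0x80c1840600204040c00306002030408003081008206041840610183040c103) (nat_lit 0x6041030600183080800306042020604183021018306101800808103000c084)) A.one) = true := by decide +kernel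

theorem pr17 : Nat.beq (PA.prod A [(nat_lit 0x80c0810800204060400402001800210001000c101060008008080030004084), (nat_lit 0x80c1840600204040c00306002030408003081008206041840610183040c103), (nat_lit 0x80c0810800204060400402001800210001000c101060008008080030004084), (nat_lit 0x6041030600183080800306042020604183021018306101800808103000c084)] A.one) (nat_lit 0x604080061018300041030004202080c1800210204060008008080030004084) = true := by decide +kernel

theorem pr19 : Nat.beq (PA.prod A [(nat_lit 0x210183041018402081830204203000010402040000200082060c0040810082), (nat_lit 0x210183041018402081830204203000010402040000200082060c0040810082)] A.one) (nat_lit 0x8040030800184080000408101800008104000c080080020108100040610104) = true := by decide +kernel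

theorem T2ok : PA.gensOk A T2 6 = true := by decide +kernel

theorem pp21 : PA.pcP A T2 0 2 [] = true := by decide +kernel

theorem pb22 : PA.pcB' A T2 (nat_lit 0x2000c000) A_one 0 = true := by decide +kernel

theorem pc23 : PA.pcC A T2 1 0 [0] = true := by decide +kernel

theorem pp24 : PA.pcP A T2 1 2 [0] = true := by decide +kernel

theorem pa25 : PA.pcA' A T2 (nat_lit 0x8081020800202060c2030800180060c082080c101060c183040c1810604202) 1 = true := by decide +kernel

theorem pa26 : PA.pcA A T2 (nat_lit 0x8081020800202060c2030800180060c082080c101060c183040c1810604202) 0 = true := by decide +kernel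

theorem pc27 : PA.pcC A T2 2 0 [0] = true := by decide +kernel

theorem pc28 : PA.pcC A T2 2 1 [0, 2] = true := by decide +kernel

theorem pp29 : PA.pcP A T2 2 2 [] = true := by decide +kernel

theorem pa30 : PA.pcA' A T2 (nat_lit 0x80c1820210200061008406081030200204000000004081820008004080c202) 2 = true := by decide +kernel

theorem pa31 : PA.pcA A T2 (nat_lit 0x80c1820210200061008406081030200204000000004081820008004080c202) 0 = true := by decide +kernel

theorem pa32 : PA.pcA A T2 (nat_lit 0x80c1820210200061008406081030200204000000004081820008004080c202) 1 = true := by decide +kernel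

theorem pc33 : PA.pcC A T2 3 0 [0] = true := by decide +kernel

theorem pc34 : PA.pcC A T2 3 1 [0, 2] = true := by decide +kernel

theorem pc35 : PA.pcC A T2 3 2 [0, 2, 4] = true := by decide +kernel

theorem pp36 : PA.pcP A T2 3 2 [0] = true := by decide +kernel

theorem pa37 : PA.pcA' A T2 (nat_lit 0x80c0810010002040c0000008081040408206081040600182020c1020200004) 3 = true := by decide +kernel

theorem pa38 : PA.pcA A T2 (nat_lit 0x80c0810010002040c0000008081040408206081040600182020c1020200004) 0 = true := by decide +kernel

theorem pa39 : PA.pcA A T2 (nat_lit 0x80c0810010002040c0000008081040408206081040600182020c1020200004) 1 = true := by decide +kernel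

theorem pa40 : PA.pcA A T2 (nat_lit 0x80c0810010002040c0000008081040408206081040600182020c1020200004) 2 = true := by decide +kernel

theorem pc41 : PA.pcC A T2 4 0 [0] = true := by decide +kernel

theorem pc42 : PA.pcC A T2 4 1 [2] = true := by decide +kernel

theorem pc43 : PA.pcC A T2 4 2 [4] = true := by decide +kernel

theorem pc44 : PA.pcC A T2 4 3 [6] = true := by decide +kernel

theorem pp45 : PA.pcP A T2 4 2 [] = true := by decide +kernel

theorem pb46 : PA.pcB' A T2 (nat_lit 0x202060c203) A_one 4 = true := by decide +kernel

theorem pb47 : PA.pcB A T2 (nat_lit 0x202060c203) A_one 0 = true := by decide +kernel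

theorem pb48 : PA.pcB A T2 (nat_lit 0x202060c203) A_one 1 = true := by decide +kernel

theorem pb49 : PA.pcB A T2 (nat_lit 0x202060c203) A_one 2 = true := by decide +kernel

theorem pb50 : PA.pcB A T2 (nat_lit 0x202060c203) A_one 3 = true := by decide +kernel

theorem pc51 : PA.pcC A T2 5 0 [0] = true := by decide +kernel

theorem pc52 : PA.pcC A T2 5 1 [2] = true := by decide +kernel

theorem pc53 : PA.pcC A T2 5 2 [0, 4] = true := by decide +kernel

theorem pc54 : PA.pcC A T2 5 3 [6] = true := by decide +kernel

theorem pc55 : PA.pcC A T2 5 4 [8] = true := by decide +kernel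

theorem pp56 : PA.pcP A T2 5 2 [8] = true := by decide +kernel

theorem pa57 : PA.pcA' A T2 (nat_lit 0x604184040c0820610103000810402100010610182000820208040000000083) 5 = true := by decide +kernel

theorem pa58 : PA.pcA A T2 (nat_lit 0x604184040c0820610103000810402100010610182000820208040000000083) 0 = true := by decide +kernel

theorem pa59 : PA.pcA A T2 (nat_lit 0x604184040c0820610103000810402100010610182000820208040000000083) 1 = true := by decide +kernel

theorem pa60 : PA.pcA A T2 (nat_lit 0x604184040c0820610103000810402100010610182000820208040000000083) 2 = true := by decide +kernel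

theorem pa61 : PA.pcA A T2 (nat_lit 0x604184040c0820610103000810402100010610182000820208040000000083) 3 = true := by decide +kernel

theorem pa62 : PA.pcA A T2 (nat_lit 0x604184040c0820610103000810402100010610182000820208040000000083) 4 = true := by decide +kernel

theorem w63 : PA.isW A TT [1, 3, 0, 3, 3, 0, 2, 2, 0, 3, 0, 3, 3, 0, 3, 0, 2, 0, 2, 0, 3, 0, 3] (nat_lit 0x60c08302002030804001080000302000040800001040420004101820010102) = true := by decide +kernel

theorem w65 : PA.isW A TT [2, 2, 1, 3, 3, 0, 2, 2, 0, 3, 0, 3, 3, 0, 2, 2, 0, 2, 2, 2] (nat_lit 0x404101060c1820608203080808308000840804004001008204041000204182) = true := by decide +kernel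

theorem iv67 : band (PA.can A (nat_lit 0x41020006081020010083020c08204102010204102000420304101800810102)) (Nat.beq (PA.mul A (nat_lit 0x404101060c1820608203080808308000840804004001008204041000204182) (nat_lit 0x41020006081020010083020c08204102010204102000420304101800810102)) A.one) = true := by decide +kernel

theorem pr69 : Nat.beq (PA.prod A [(nat_lit 0x41020006081020010083020c08204102010204102000420304101800810102), (nat_lit 0x60c08302002030804001080000302000040800001040420004101820010102), (nat_lit 0x404101060c1820608203080808308000840804004001008204041000204182)] A.one) (nat_lit 0x100820404100020418206102010404103061018204101840200102040c001) = true := by decide +kernel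

theorem T3ok : PA.gensOk A T3 3 = true := by decide +kernel

theorem pp71 : PA.pcP A T3 0 3 [] = true := by decide +kernel

theorem pb72 : PA.pcB' A T3 (nat_lit 0x2000604203) A_one 0 = true := by decide +kernel

theorem pc73 : PA.pcC A T3 1 0 [0] = true := by decide +kernel

theorem pp74 : PA.pcP A T3 1 3 [] = true := by decide +kernel

theorem pb75 : PA.pcB' A T3 (nat_lit 0x1010808002) A_one 1 = true := by decide +kernel

theorem pb76 : PA.pcB A T3 (nat_lit 0x1010808002) A_one 0 = true := by decide +kernel

theorem pc77 : PA.pcC A T3 2 0 [1, 3] = true := by decide +kernel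

theorem pc78 : PA.pcC A T3 2 1 [0] = true := by decide +kernel

theorem pp79 : PA.pcP A T3 2 3 [] = true := by decide +kernel

theorem pa80 : PA.pcA' A T3 (nat_lit 0x80400406101840400103040408308001820804004040010108080020608084) 2 = true := by decide +kernel

theorem pa81 : PA.pcA A T3 (nat_lit 0x80400406101840400103040408308001820804004040010108080020608084) 0 = true := by decide +kernel

theorem pa82 : PA.pcA A T3 (nat_lit 0x80400406101840400103040408308001820804004040010108080020608084) 1 = true := by decide +kernel

theorem w83 : PA.isW A TT [0, 2, 2, 0, 2, 0, 3, 3, 0, 3, 0, 2, 2, 0, 3, 3, 0, 3, 3, 0] (nat_lit 0x20020102080010610081000008002040000004181000000002000000000001) = true := by decide +kernel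

theorem w85 : PA.isW A TT [0, 3, 0, 3, 0, 2, 0, 2, 0, 2, 2, 2, 0, 3, 0, 2, 2, 0] (nat_lit 0x20010006080010008083000008006000000004003000000002000000000001) = true := by decide +kernel

theorem iv87 : band (PA.can A (nat_lit 0x200180060c001000c203000008004000000004002000000002000000000001)) (Nat.beq (PA.mul A (nat_lit 0x20010006080010008083000008006000000004003000000002000000000001) (nat_lit 0x200180060c001000c203000008004000000004002000000002000000000001)) A.one) = true := by decide +kernel

theorem iv89 : band (PA.can A (nat_lit 0x200084020c0010404201000008008100000004104000000002000000000001)) (Nat.beq (PA.mul A (nat_lit 0x20020102080010610081000008002040000004181000000002000000000001) (nat_lit 0x200084020c0010404201000008008100000004104000000002000000000001)) A.one) = true := by decide +kernel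

theorem pr91 : Nat.beq (PA.prod A [(nat_lit 0x20020102080010610081000008002040000004181000000002000000000001), (nat_lit 0x200180060c001000c203000008004000000004002000000002000000000001), (nat_lit 0x200084020c0010404201000008008100000004104000000002000000000001), (nat_lit 0x20010006080010008083000008006000000004003000000002000000000001)] A.one) (nat_lit 0x20000000100010000100000008000000000004000000000002000000000001) = true := by decide +kernel

theorem pr93 : Nat.beq (PA.prod A [(nat_lit 0x20010006080010008083000008006000000004003000000002000000000001), (nat_lit 0x20020102080010610081000008002040000004181000000002000000000001), (nat_lit 0x20020102080010610081000008002040000004181000000002000000000001)] A.one) (nat_lit 0x20000202000010200001000008000080000004080000000002000000000001) = true := by decide +kernel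

theorem T5ok : PA.gensOk A T5 3 = true := by decide +kernel

theorem pp95 : PA.pcP A T5 0 5 [] = true := by decide +kernel

theorem pb96 : PA.pcB' A T5 (nat_lit 0x10000000) A_one 0 = true := by decide +kernel

theorem pc97 : PA.pcC A T5 1 0 [0] = true := by decide +kernel

theorem pp98 : PA.pcP A T5 1 5 [] = true := by decide +kernel

theorem pb99 : PA.pcB' A T5 (nat_lit 0x4000) A_one 1 = true := by decide +kernel

theorem pb100 : PA.pcB A T5 (nat_lit 0x4000) A_one 0 = true := by decide +kernel

theorem pc101 : PA.pcC A T5 2 0 [0] = true := by decide +kernel

theorem pc102 : PA.pcC A T5 2 1 [1, 2] = true := by decide +kernel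

theorem pp103 : PA.pcP A T5 2 5 [] = true := by decide +kernel

theorem pb104 : PA.pcB' A T5 (nat_lit 0x10000000) (nat_lit 0x20000000000010000000000000000000000004000000000000000000000000) 2 = true := by decide +kernel

theorem pb105 : PA.pcB A T5 (nat_lit 0x10000000) (nat_lit 0x20000000000010000000000000000000000004000000000000000000000000) 0 = true := by decide +kernel

theorem pb106 : PA.pcB A T5 (nat_lit 0x10000000) (nat_lit 0x20000000000010000000000000000000000004000000000000000000000000) 1 = true := by decide +kernel

theorem w107 : PA.isW A TT [3, 0, 2, 0, 3, 3, 0, 2, 0, 2, 2, 0, 2, 0, 2, 2, 0, 3, 3, 0, 3] (nat_lit 0x8040000610184000010304101840408102040c0820210001000c1010600200) = true := by decide +kernel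

theorem T7ok : PA.gensOk A T7 1 = true := by decide +kernel

theorem pp109 : PA.pcP A T7 0 7 [] = true := by decide +kernel

theorem pb110 : PA.pcB' A T7 (nat_lit 0x1040210103) A_one 0 = true := by decide +kernel

end Cfsg.Agent.Spor.HNm
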