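import Cfsg.Agent.Spor.PC
import Cfsg.Agent.Spor.HNm.C0

set_option autoImplicit false
set_option maxRecDepth 100000000
set_option Elab.async false

namespace Cfsg.Agent.Spor.HNm

theorem hp : ((A.p : ℕ) : ZMod 5) = 0 := by decide
instance instCharP : CharP (ZMod 5) A.p := ZMod.charP 5

noncomputable abbrev Ω : MRep A (ZMod 5) (GL (Fin A.d) (ZMod 5)) := MRep.gl A (ZMod 5) sq hp
noncomputable abbrev F : ℕ → GL (Fin A.d) (ZMod 5) := Ω.gen TT
def RL : List (List ℕ) := [[2, 2, 2, 2, 2, 2], [0, 0, 2, 0, 0, 3], [1, 3, 0, 2, 1, 3, 0, 2, 1, 3, 0, 2], [1, 2, 2, 0, 2, 2, 2, 1, 2, 2, 0, 2, 2, 2, 1, 2, 2, 0, 2, 2, 2], [0, 2, 0, 2, 0, 2, 0, 2, 0, 2, 0, 2, 0, 2, 0, 2], [0, 2, 0, 2, 2, 2, 0, 2, 0, 2, 2, 2, 0, 2, 0, 2, 2, 2, 0, 2, 0, 2, 2, 2]]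
theorem pres : Pres 2 0 RL F :=
  ⟨fun _ h => absurd h (Nat.not_lt_zero _), (MRep.gl_gens TTok).all_one (show AllP (fun w => PA.isW A TT w A.one = true) [[2, 2, 2, 2, 2, 2], [0, 0, 2, 0, 0, 3], [1, 3, 0, 2, 1, 3, 0, 2, 1, 3, 0, 2], [1, 2, 2, 0, 2, 2, 2, 1, 2, 2, 0, 2, 2, 2, 1, 2, 2, 0, 2, 2, 2], [0, 2, 0, 2, 0, 2, 0, 2, 0, 2, 0, 2, 0, 2, 0, 2], [0, 2, 0, 2, 2, 2, 0, 2, 0, 2, 2, 2, 0, 2, 0, 2, 2, 2, 0, 2, 0, 2, 2, 2]] from AllP.cons r1 (AllP.cons r2 (AllP.cons r3 (AllP.cons r4 (AllP.cons r5 (AllP.cons r6 (AllP.nil)))))))⟩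

/-- the matrix group -/
noncomputable abbrev P : Subgroup (GL (Fin A.d) (ZMod 5)) := gsub 2 F
noncomputable abbrev p : ℕ → P := lift P F
noncomputable def X : MRep A (ZMod 5) P := Ω.comp P.subtype P.subtype_injective
theorem gens : X.Gens TT (atm 2 p) := (MRep.gl_gens TTok).lift fun _ hj => mem_gsub F hj
theorem hM8 : X.M (nat_lit 0x80c0810800204060400402001800210001000c101060008008080030004084) := (gens.isW w7).1
theorem hM10 : X.M (nat_lit 0x210183041018402081830204203000010402040000200082060c0040810082) := (gens.isW w9).1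
theorem hM12 : X.M (nat_lit 0x80c1840600204040c00306002030408003081008206041840610183040c103) := (gens.isW w11).1
theorem hM14 : X.M (nat_lit 0x210002020010102000010204100000c1810008200020008402040010404181) := MRep.M.of_prod (L := [(nat_lit 0x80c1840600204040c00306002030408003081008206041840610183040c103), (nat_lit 0x80c1840600204040c00306002030408003081008206041840610183040c103)]) (AllP.cons hM12 (AllP.cons hM12 (AllP.nil))) pr13
theorem hM16 : X.M (nat_lit 0x6041030600183080800306042020604183021018306101800808103000c084) := (MRep.M.inv hM12 iv15).1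
theorem hM18 : X.M (nat_lit 0x604080061018300041030004202080c1800210204060008008080030004084) := MRep.M.of_prod (L := [(nat_lit 0x80c0810800204060400402001800210001000c101060008008080030004084), (nat_lit 0x80c1840600204040c00306002030408003081008206041840610183040c103), (nat_lit 0x80c0810800204060400402001800210001000c101060008008080030004084), (nat_lit 0x6041030600183080800306042020604183021018306101800808103000c084)]) (AllP.cons hM8 (AllP.cons hM12 (AllP.cons hM8 (AllP.cons hM16 (AllP.nil))))) pr17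
theorem hM20 : X.M (nat_lit 0x8040030800184080000408101800008104000c080080020108100040610104) := MRep.M.of_prod (L := [(nat_lit 0x210183041018402081830204203000010402040000200082060c0040810082), (nat_lit 0x210183041018402081830204203000010402040000200082060c0040810082)]) (AllP.cons hM10 (AllP.cons hM10 (AllP.nil))) pr19
theorem gT2 : X.Gens T2 (atm 6 (X.gen T2)) :=
  MRep.Gens.of_M T2ok (MRep.allM (L := [(nat_lit 0x210002020010102000010204100000c1810008200020008402040010404181), (nat_lit 0x604080061018300041030004202080c1800210204060008008080030004084), (nat_lit 0x80c0810800204060400402001800210001000c101060008008080030004084), (nat_lit 0x80c1840600204040c00306002030408003081008206041840610183040c103), (nat_lit 0x8040030800184080000408101800008104000c080080020108100040610104), (nat_lit 0x210183041018402081830204203000010402040000200082060c0040810082)]) (AllP.cons hM14 (AllP.cons hM18 (AllP.cons hM8 (AllP.cons hM12 (AllP.cons hM20 (AllP.cons hM10 (AllP.nil))))))) rfl)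
theorem T2pc1 : PC (X.gen T2) 1 2 :=
  gT2.pc (p := 2) (PC.zero _) (by decide) (by norm_num)
    (show AllP (fun j => ∃ w, PA.pcC A T2 0 j w = true) [] from AllP.nil) pp21
    (gT2.notB (by decide) (PC.zero _) pb22 (show AllP (fun j => PA.pcB A T2 (nat_lit 0x2000c000) A_one j = true) [] from AllP.nil))
theorem T2pc2 : PC (X.gen T2) 2 4 :=
  gT2.pc (p := 2) T2pc1 (by decide) (by norm_num)
    (show AllP (fun j => ∃ w, PA.pcC A T2 1 j w = true) [0] from AllP.cons ⟨_, pc23⟩ (AllP.nil)) pp24
    (gT2.notA (by decide) T2pc1 pa25 (show AllP (fun j => PA.pcA A T2 (nat_lit 0x8081020800202060c2030800180060c082080c101060c183040c1810604202) j = true) [0] from AllP.cons pa26 (AllP.nil)))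
theorem T2pc3 : PC (X.gen T2) 3 8 :=
  gT2.pc (p := 2) T2pc2 (by decide) (by norm_num)
    (show AllP (fun j => ∃ w, PA.pcC A T2 2 j w = true) [0, 1] from AllP.cons ⟨_, pc27⟩ (AllP.cons ⟨_, pc28⟩ (AllP.nil))) pp29
    (gT2.notA (by decide) T2pc2 pa30 (show AllP (fun j => PA.pcA A T2 (nat_lit 0x80c1820210200061008406081030200204000000004081820008004080c202) j = true) [0, 1] from AllP.cons pa31 (AllP.cons pa32 (AllP.nil))))
theorem T2pc4 : PC (X.gen T2) 4 16 :=
  gT2.pc (p := 2) T2pc3 (by decide) (by norm_num)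
    (show AllP (fun j => ∃ w, PA.pcC A T2 3 j w = true) [0, 1, 2] from AllP.cons ⟨_, pc33⟩ (AllP.cons ⟨_, pc34⟩ (AllP.cons ⟨_, pc35⟩ (AllP.nil)))) pp36
    (gT2.notA (by decide) T2pc3 pa37 (show AllP (fun j => PA.pcA A T2 (nat_lit 0x80c0810010002040c0000008081040408206081040600182020c1020200004) j = true) [0, 1, 2] from AllP.cons pa38 (AllP.cons pa39 (AllP.cons pa40 (AllP.nil)))))
theorem T2pc5 : PC (X.gen T2) 5 32 :=
  gT2.pc (p := 2) T2pc4 (by decide) (by norm_num)
    (show AllP (fun j => ∃ w, PA.pcC A T2 4 j w = true) [0, 1, 2, 3] from AllP.cons ⟨_, pc41⟩ (AllP.cons ⟨_, pc42⟩ (AllP.cons ⟨_, pc43⟩ (AllP.cons ⟨_, pc44⟩ (AllP.nil))))) pp45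
    (gT2.notB (by decide) T2pc4 pb46 (show AllP (fun j => PA.pcB A T2 (nat_lit 0x202060c203) A_one j = true) [0, 1, 2, 3] from AllP.cons pb47 (AllP.cons pb48 (AllP.cons pb49 (AllP.cons pb50 (AllP.nil))))))
theorem T2pc6 : PC (X.gen T2) 6 64 :=
  gT2.pc (p := 2) T2pc5 (by decide) (by norm_num)
    (show AllP (fun j => ∃ w, PA.pcC A T2 5 j w = true) [0, 1, 2, 3, 4] from AllP.cons ⟨_, pc51⟩ (AllP.cons ⟨_, pc52⟩ (AllP.cons ⟨_, pc53⟩ (AllP.cons ⟨_, pc54⟩ (AllP.cons ⟨_, pc55⟩ (AllP.nil)))))) pp56
    (gT2.notA (by decide) T2pc5 pa57 (show AllP (fun j => PA.pcA A T2 (nat_lit 0x604184040c0820610103000810402100010610182000820208040000000083) j = true) [0, 1, 2, 3, 4] from AllP.cons pa58 (AllP.cons pa59 (AllP.cons pa60 (AllP.cons pa61 (AllP.cons pa62 (AllP.nil)))))))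
theorem hM64 : X.M (nat_lit 0x60c08302002030804001080000302000040800001040420004101820010102) := (gens.isW w63).1
theorem hM66 : X.M (nat_lit 0x404101060c1820608203080808308000840804004001008204041000204182) := (gens.isW w65).1
theorem hM68 : X.M (nat_lit 0x41020006081020010083020c08204102010204102000420304101800810102) := (MRep.M.inv hM66 iv67).1
theorem hM70 : X.M (nat_lit 0x100820404100020418206102010404103061018204101840200102040c001) := MRep.M.of_prod (L := [(nat_lit 0x41020006081020010083020c08204102010204102000420304101800810102), (nat_lit 0x60c08302002030804001080000302000040800001040420004101820010102), (nat_lit 0x404101060c1820608203080808308000840804004001008204041000204182)]) (AllP.cons hM68 (AllP.cons hM64 (AllP.cons hM66 (AllP.nil)))) pr69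
theorem gT3 : X.Gens T3 (atm 3 (X.gen T3)) :=
  MRep.Gens.of_M T3ok (MRep.allM (L := [(nat_lit 0x60c08302002030804001080000302000040800001040420004101820010102), (nat_lit 0x100820404100020418206102010404103061018204101840200102040c001), (nat_lit 0x404101060c1820608203080808308000840804004001008204041000204182)]) (AllP.cons hM64 (AllP.cons hM70 (AllP.cons hM66 (AllP.nil)))) rfl)
theorem T3pc1 : PC (X.gen T3) 1 3 :=
  gT3.pc (p := 3) (PC.zero _) (by decide) (by norm_num)
    (show AllP (fun j => ∃ w, PA.pcC A T3 0 j w = true) [] from AllP.nil) pp71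
    (gT3.notB (by decide) (PC.zero _) pb72 (show AllP (fun j => PA.pcB A T3 (nat_lit 0x2000604203) A_one j = true) [] from AllP.nil))
theorem T3pc2 : PC (X.gen T3) 2 9 :=
  gT3.pc (p := 3) T3pc1 (by decide) (by norm_num)
    (show AllP (fun j => ∃ w, PA.pcC A T3 1 j w = true) [0] from AllP.cons ⟨_, pc73⟩ (AllP.nil)) pp74
    (gT3.notB (by decide) T3pc1 pb75 (show AllP (fun j => PA.pcB A T3 (nat_lit 0x1010808002) A_one j = true) [0] from AllP.cons pb76 (AllP.nil)))
theorem T3pc3 : PC (X.gen T3) 3 27 :=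
  gT3.pc (p := 3) T3pc2 (by decide) (by norm_num)
    (show AllP (fun j => ∃ w, PA.pcC A T3 2 j w = true) [0, 1] from AllP.cons ⟨_, pc77⟩ (AllP.cons ⟨_, pc78⟩ (AllP.nil))) pp79
    (gT3.notA (by decide) T3pc2 pa80 (show AllP (fun j => PA.pcA A T3 (nat_lit 0x80400406101840400103040408308001820804004040010108080020608084) j = true) [0, 1] from AllP.cons pa81 (AllP.cons pa82 (AllP.nil))))
theorem hM84 : X.M (nat_lit 0x20020102080010610081000008002040000004181000000002000000000001) := (gens.isW w83).1
theorem hM86 : X.M (nat_lit 0x20010006080010008083000008006000000004003000000002000000000001) := (gens.isW w85).1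
theorem hM88 : X.M (nat_lit 0x200180060c001000c203000008004000000004002000000002000000000001) := (MRep.M.inv hM86 iv87).1
theorem hM90 : X.M (nat_lit 0x200084020c0010404201000008008100000004104000000002000000000001) := (MRep.M.inv hM84 iv89).1
theorem hM92 : X.M (nat_lit 0x20000000100010000100000008000000000004000000000002000000000001) := MRep.M.of_prod (L := [(nat_lit 0x20020102080010610081000008002040000004181000000002000000000001), (nat_lit 0x200180060c001000c203000008004000000004002000000002000000000001), (nat_lit 0x200084020c0010404201000008008100000004104000000002000000000001), (nat_lit 0x20010006080010008083000008006000000004003000000002000000000001)]) (AllP.cons hM84 (AllP.cons hM88 (AllP.cons hM90 (AllP.cons hM86 (AllP.nil))))) pr91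
theorem hM94 : X.M (nat_lit 0x20000202000010200001000008000080000004080000000002000000000001) := MRep.M.of_prod (L := [(nat_lit 0x20010006080010008083000008006000000004003000000002000000000001), (nat_lit 0x20020102080010610081000008002040000004181000000002000000000001), (nat_lit 0x20020102080010610081000008002040000004181000000002000000000001)]) (AllP.cons hM86 (AllP.cons hM84 (AllP.cons hM84 (AllP.nil)))) pr93
theorem gT5 : X.Gens T5 (atm 3 (X.gen T5)) :=
  MRep.Gens.of_M T5ok (MRep.allM (L := [(nat_lit 0x20000000100010000100000008000000000004000000000002000000000001), (nat_lit 0x20000202000010200001000008000080000004080000000002000000000001), (nat_lit 0x20020102080010610081000008002040000004181000000002000000000001)]) (AllP.cons hM92 (AllP.cons hM94 (AllP.cons hM84 (AllP.nil)))) rfl)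
theorem T5pc1 : PC (X.gen T5) 1 5 :=
  gT5.pc (p := 5) (PC.zero _) (by decide) (by norm_num)
    (show AllP (fun j => ∃ w, PA.pcC A T5 0 j w = true) [] from AllP.nil) pp95
    (gT5.notB (by decide) (PC.zero _) pb96 (show AllP (fun j => PA.pcB A T5 (nat_lit 0x10000000) A_one j = true) [] from AllP.nil))
theorem T5pc2 : PC (X.gen T5) 2 25 :=
  gT5.pc (p := 5) T5pc1 (by decide) (by norm_num)
    (show AllP (fun j => ∃ w, PA.pcC A T5 1 j w = true) [0] from AllP.cons ⟨_, pc97⟩ (AllP.nil)) pp98
    (gT5.notB (by decide) T5pc1 pb99 (show AllP (fun j => PA.pcB A T5 (nat_lit 0x4000) A_one j = true) [0] from AllP.cons pb100 (AllP.nil)))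
theorem T5pc3 : PC (X.gen T5) 3 125 :=
  gT5.pc (p := 5) T5pc2 (by decide) (by norm_num)
    (show AllP (fun j => ∃ w, PA.pcC A T5 2 j w = true) [0, 1] from AllP.cons ⟨_, pc101⟩ (AllP.cons ⟨_, pc102⟩ (AllP.nil))) pp103
    (gT5.notB (by decide) T5pc2 pb104 (show AllP (fun j => PA.pcB A T5 (nat_lit 0x10000000) (nat_lit 0x20000000000010000000000000000000000004000000000000000000000000) j = true) [0, 1] from AllP.cons pb105 (AllP.cons pb106 (AllP.nil))))
theorem hM108 : X.M (nat_lit 0x8040000610184000010304101840408102040c0820210001000c1010600200) := (gens.isW w107).1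
theorem gT7 : X.Gens T7 (atm 1 (X.gen T7)) :=
  MRep.Gens.of_M T7ok (MRep.allM (L := [(nat_lit 0x8040000610184000010304101840408102040c0820210001000c1010600200)]) (AllP.cons hM108 (AllP.nil)) rfl)
theorem T7pc1 : PC (X.gen T7) 1 7 :=
  gT7.pc (p := 7) (PC.zero _) (by decide) (by norm_num)
    (show AllP (fun j => ∃ w, PA.pcC A T7 0 j w = true) [] from AllP.nil) pp109
    (gT7.notB (by decide) (PC.zero _) pb110 (show AllP (fun j => PA.pcB A T7 (nat_lit 0x1040210103) A_one j = true) [] from AllP.nil))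
theorem lbP : 1512000 ∣ Nat.card P :=
  (show _ ∣ Nat.lcm (Nat.lcm (Nat.lcm _ _) _) _ by decide +kernel).trans
    (Nat.lcm_dvd (Nat.lcm_dvd (Nat.lcm_dvd T2pc6.dvd T3pc3.dvd) T5pc3.dvd) T7pc1.dvd)

end Cfsg.Agent.Spor.HNm
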